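import Mathlib

/-!
# Adic completeness only depends on the adic topology

Helper library of helper7: if `I ≤ J` and `J ^ N ≤ I` then an `I`-adically complete module is
`J`-adically complete.
-/

set_option autoImplicit false

namespace Groth.Agent.Helper7.Adic

variable {R : Type*} [CommRing R] {M : Type*} [AddCommGroup M] [Module R M]

theorem isAdicComplete_of_le_of_pow_le (I J : Ideal R) (hIJ : I ≤ J) (N : ℕ) (hJI : J ^ N ≤ I)
    [IsAdicComplete I M] : IsAdicComplete J M := by
  have hK : J ^ (N + 1) ≤ I := (Ideal.pow_le_pow_right N.le_succ).trans hJI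
  have h1 : ∀ n : ℕ, (J ^ ((N + 1) * n) • ⊤ : Submodule R M) ≤ I ^ n • ⊤ := by
    intro n
    rw [pow_mul]
    exact Submodule.smul_mono_left (Ideal.pow_right_mono hK n)
  have h2 : ∀ n : ℕ, (I ^ n • ⊤ : Submodule R M) ≤ J ^ n • ⊤ := fun n =>
    Submodule.smul_mono_left (Ideal.pow_right_mono hIJ n)
  have h3 : ∀ {m n : ℕ}, m ≤ n → (J ^ n • ⊤ : Submodule R M) ≤ J ^ m • ⊤ := fun h =>
    Submodule.smul_mono_left (Ideal.pow_le_pow_right h)
  have hle : ∀ n : ℕ, n ≤ (N + 1) * n := fun n => Nat.le_mul_of_pos_left n (Nat.succ_pos N)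
  have hH : IsHausdorff J M := by
    refine ⟨fun x hx => ?_⟩
    refine IsHausdorff.haus (I := I) inferInstance x fun n => ?_
    rw [SModEq.zero]
    have := hx ((N + 1) * n)
    rw [SModEq.zero] at this
    exact h1 n this
  have hP : IsPrecomplete J M := by
    refine ⟨fun f hf => ?_⟩
    have hg : ∀ {m n : ℕ}, m ≤ n →
        f ((N + 1) * m) ≡ f ((N + 1) * n) [SMOD (I ^ m • ⊤ : Submodule R M)] := by
      intro m n hmn
      rw [SModEq.sub_mem]
      have := hf (Nat.mul_le_mul_left (N + 1) hmn)
      rw [SModEq.sub_mem] at this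
      exact h1 m this
    obtain ⟨L, hL⟩ := IsPrecomplete.prec (I := I) inferInstance hg
    refine ⟨L, fun n => ?_⟩
    rw [SModEq.sub_mem]
    have e1 : f n - f ((N + 1) * n) ∈ (J ^ n • ⊤ : Submodule R M) := by
      have := hf (hle n)
      rwa [SModEq.sub_mem] at this
    have e2 : f ((N + 1) * n) - L ∈ (J ^ n • ⊤ : Submodule R M) := by
      have := hL n
      rw [SModEq.sub_mem] at this
      exact h2 n this
    have : f n - L = (f n - f ((N + 1) * n)) + (f ((N + 1) * n) - L) := by abel
    rw [this]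
    exact Submodule.add_mem _ e1 e2
  exact { toIsHausdorff := hH, toIsPrecomplete := hP }

end Groth.Agent.Helper7.Adic
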