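import Groth.Prelude.Def_W4bk4boschfrg79
import Mathlib

/-! Restricted power series are flat over a base ring of class (N) or (V) (S11546). -/

universe u

namespace Groth.Agent.Helper7.FlatRPow

open AdicRing

/-- In a domain `P`, multiplication by a nonzero `a` is injective on the `(a)`-adic completion. -/
theorem smul_injective_completion {P : Type*} [CommRing P] [IsDomain P] (a : P) (ha : a ≠ 0)
    (J : Ideal P) (hJ : J = Ideal.span {a}) (x : AdicCompletion J P) (hx : a • x = 0) : x = 0 := by
  apply AdicCompletion.ext
  intro n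
  rw [AdicCompletion.val_zero_apply]
  obtain ⟨y, hy⟩ := Submodule.Quotient.mk_surjective _ (x.val (n + 1))
  have h1 : (a • x).val (n + 1) = 0 := by rw [hx]; rfl
  rw [AdicCompletion.val_smul_apply, ← hy, ← Submodule.Quotient.mk_smul,
    Submodule.Quotient.mk_eq_zero] at h1
  have hJn : ∀ k, (J ^ k • ⊤ : Submodule P P) = Ideal.span {a ^ k} := by
    intro k
    rw [hJ, Ideal.span_singleton_pow, smul_eq_mul, Ideal.mul_top]
  rw [hJn, Ideal.mem_span_singleton'] at h1
  obtain ⟨z, hz⟩ := h1
  have hyz : y = z * a ^ n := by
    have : a * y = a * (z * a ^ n) := by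
      rw [smul_eq_mul] at hz
      rw [← hz]; ring
    exact mul_left_cancel₀ ha this
  have h2 : x.val n = AdicCompletion.transitionMap J P (Nat.le_succ n) (x.val (n + 1)) :=
    (x.property (Nat.le_succ n)).symm
  rw [h2, ← hy]
  change Submodule.factor _ (Submodule.mkQ _ y) = 0
  rw [Submodule.factor_mk, Submodule.mkQ_apply, Submodule.Quotient.mk_eq_zero, hJn,
    Ideal.mem_span_singleton']
  exact ⟨z, hyz.symm⟩

theorem flat_rPow (R : Type u) [CommRing R] (I : Ideal R) (hR : AdicRing.IsBase R I) (n : ℕ) :
    Module.Flat R (AdicRing.RPow R I n) := by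
  obtain ⟨hcomp, hNV⟩ := hR
  rcases hNV with ⟨hN, _⟩ | ⟨hdom, hval, _, t, ht0, hIt⟩
  · have : Module.Flat (MvPolynomial (Fin n) R) (AdicRing.RPow R I n) :=
      AdicCompletion.flat_of_isNoetherian _
    exact Module.Flat.trans R (MvPolynomial (Fin n) R) (AdicRing.RPow R I n)
  · have : ValuationRing R := { toPreValuationRing := hval }
    rw [Module.Flat.flat_iff_torsion_eq_bot_of_isBezout, Submodule.eq_bot_iff]
    intro x hx
    rw [Submodule.mem_torsion_iff] at hx
    obtain ⟨⟨r, hr⟩, hrx⟩ := hx
    have hr0 : r ≠ 0 := nonZeroDivisors.ne_zero hr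
    -- some power of `t` is a multiple of `r`
    have hpow : ∃ k : ℕ, r ∣ t ^ k := by
      by_contra hcon
      simp only [not_exists] at hcon
      apply hr0
      have hhaus : IsHausdorff I R := hcomp.toIsHausdorff
      apply hhaus.haus
      intro k
      rw [SModEq.zero, smul_eq_mul, Ideal.mul_top, hIt, Ideal.span_singleton_pow,
        Ideal.mem_span_singleton]
      rcases ValuationRing.dvd_total r (t ^ k) with h | h
      · exact absurd h (hcon k)
      · exact h
    obtain ⟨k, s, hs⟩ := hpow
    have hx2 : (t ^ k) • x = 0 := by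
      rw [hs, mul_comm, mul_smul]
      change s • ((⟨r, hr⟩ : nonZeroDivisors R) • x) = 0
      rw [hrx, smul_zero]
    -- `t` acts injectively
    have hJ : I.map (MvPolynomial.C : R →+* MvPolynomial (Fin n) R) =
        Ideal.span {(MvPolynomial.C t : MvPolynomial (Fin n) R)} := by
      rw [hIt, Ideal.map_span, Set.image_singleton]
    have hinj : ∀ y : AdicRing.RPow R I n, t • y = 0 → y = 0 := by
      intro y hy
      apply smul_injective_completion (MvPolynomial.C t) (by simpa using ht0) _ hJ y
      rw [← hy]
      apply AdicCompletion.ext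
      intro m
      rw [AdicCompletion.val_smul_apply, AdicCompletion.val_smul_apply]
      rw [MvPolynomial.C_eq_smul_one, smul_assoc, one_smul]
    clear hrx hs
    induction k with
    | zero => simpa using hx2
    | succ k ih =>
      apply ih
      apply hinj
      rw [← mul_smul, ← pow_succ']
      exact hx2

end Groth.Agent.Helper7.FlatRPow
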